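import Cfsg.Agent.Sv.B0
import Cfsg.Agent.Loc.Core
import Cfsg.Agent.Known.Inv.Sp.He
import Cfsg.Agent.S2134
import Cfsg.Agent.S5424
import Cfsg.Agent.S0445

/-! Involutions of the Held group commuting with an element of order seven. -/

set_option autoImplicit false
set_option maxRecDepth 1000000

namespace CF.Sv

open Cfsg Subgroup CF.Loc

namespace HI

def ce {G : Type*} [Group G] (g z : G) : 𝐜(z) ≃* 𝐜(g * z * g⁻¹) :=
  ((MulAut.conj g).subgroupMap _).trans (MulEquiv.subgroupCongr (cj_centralizer_singleton g z))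

open CF.Comp CF.Fisch CF.KI CF.KI.He in
theorem cls : ∃ a : Spor.He, Nat.card 𝐜(a) = 21504 ∧ ∀ t : Spor.He, orderOf t = 2 → IsConj a t ∨ Nat.card 𝐜(t) = 161280 := by
  obtain ⟨hE, -⟩ := Bt.Exact.fresh He.exact (by decide) (fun _ _ => trivial) h1 (m := 2) rfl h2 (card_top.trans He.card) h3
  have := Bt.Exact.finite_top hE
  have he := isSm_eqM hE.reps (by decide) (Exact.based hE fun _ => trivial) e1 e2 e3
  have hS := cenS_of hE he rfl s1 s2 s3
  have h := Cl.st he hS (Cl.zero ⊤) l0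
  replace h := Cl.st he hS h l1
  replace h := Cl.st he hS h l2
  replace h := Cl.st he hS h l3
  replace h := Cl.st he hS h l4
  replace h := Cl.st he hS h l5
  replace h := Cl.st he hS h l6
  replace h := Cl.st he hS h l7
  replace h := Cl.st he hS h l8
  replace h := Cl.st he hS h l9
  have c1 := (cent_exact hE he (by decide) (by decide) a11 a12 a13).2
  refine ⟨ev (slp (evs He.f ws) W 2) a0, (cent_exact hE he (by decide) (by decide) a01 a02 a03).2, fun t ht => ?_⟩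
  obtain ⟨x, -, r, hr, k⟩ := classes_of_sylow (H := ⊤) le_top Nat.prime_two (m := 3935925)
    (by rw [card_top, hS.card0, He.card]; rfl) (by norm_num) (R := fun y => ∃ r ∈ [[], a0, a1], y = ev (slp (evs He.f ws) W 2) r)
    (h.fin he (fun _ => mem_top _) rfl fin) t trivial (ht ▸ pow_orderOf_eq_one t)
  simp only [List.mem_cons, List.not_mem_nil, or_false] at hr
  rcases hr with rfl | rfl | rfl
  · rw [ev_nil, conj_eq_one_iff] at k
    simp [k] at ht
  · exact .inl (isConj_iff.2 ⟨x, k⟩).symm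
  · exact .inr ((Nat.card_congr (ce x t).toEquiv).trans (k ▸ c1))

theorem two (t : Spor.He) (ht : orderOf t = 2) : Nat.card 𝐜(t) = 21504 ∨ Nat.card 𝐜(t) = 161280 := by
  obtain ⟨a, c, h⟩ := cls
  refine (h t ht).imp_left fun k => ?_
  obtain ⟨g, rfl⟩ := isConj_iff.1 k
  exact (Nat.card_congr (ce g a).toEquiv).symm.trans c

theorem not_big {G : Type*} [Group G] [Finite G] {t s : G} (ht : orderOf t = 2) (hs : orderOf s = 7) (c : Commute t s)
    (h : Nat.card ↥(𝐜(t) ⊓ 𝐜(s)) ≤ 14) : Nat.card 𝐜(t) ≠ 161280 := fun e => by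
  let s' : 𝐜(t) := ⟨s, mem_centralizer_singleton_iff.2 c.symm.eq⟩
  have o : orderOf s' = 7 := (orderOf_coe s').symm.trans hs
  let P : Sylow 7 𝐜(t) := Sylow.ofCard (zpowers s') (by
    rw [Nat.card_zpowers, o, e, show 161280 = 7 ^ 1 * 23040 from rfl, Nat.factorization_mul (by norm_num) (by norm_num)]
    simp [Nat.factorization_eq_zero_of_not_dvd (show ¬ 7 ∣ 23040 by norm_num), Nat.Prime.factorization_self fact7.out])
  have n1 := card_sylow_modEq_one 7 𝐜(t)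
  rw [P.card_eq_index_normalizer] at n1
  have n2 := (normalizer (P : Set 𝐜(t))).index_mul_card
  have : IsCyclic P := isCyclic_zpowers s'
  have n3 := (zpowers s').normalizerMonoidHom.ker.card_mul_index
  rw [index_ker, normalizerMonoidHom_ker] at n3
  have n4 := card_subgroup_dvd_card (zpowers s').normalizerMonoidHom.range
  rw [IsCyclic.card_mulAut, Nat.card_zpowers, o] at n4
  have n5 : Nat.card ((centralizer (zpowers s' : Set 𝐜(t))).subgroupOf (normalizer (zpowers s' : Set 𝐜(t)))) = 14 := by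
    rw [Nat.card_congr (subgroupOfEquivOfLe (centralizer_le_normalizer _)).toEquiv, centralizer_zpowers]
    have a : Nat.card 𝐜(s') = Nat.card ↥(𝐜(t) ⊓ 𝐜(s)) := by
      rw [← card_map_of_injective (subtype_injective 𝐜(t))]
      congr 2
      ext x
      simp only [mem_map, mem_centralizer_singleton_iff, mem_inf, Subtype.ext_iff]
      exact ⟨fun ⟨y, a, b⟩ => b ▸ ⟨mem_centralizer_singleton_iff.1 y.2, a⟩, fun a =>
        ⟨⟨x, mem_centralizer_singleton_iff.2 a.1⟩, a.2, rfl⟩⟩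
    refine a.trans (h.antisymm (Nat.le_of_dvd Nat.card_pos (Nat.Coprime.mul_dvd_of_dvd_of_dvd (m := 2) (n := 7) (by norm_num)
      (ht ▸ orderOf_dvd_natCard _ ?_) (hs ▸ orderOf_dvd_natCard _ ?_))))
    · exact ⟨mem_centralizer_singleton_iff.2 rfl, mem_centralizer_singleton_iff.2 c.eq⟩
    · exact ⟨s'.2, mem_centralizer_singleton_iff.2 rfl⟩
  change _ * Nat.card (normalizer (zpowers s' : Set 𝐜(t))) = _ at n2
  rw [← n3, n5, e] at n2
  have := Nat.le_of_dvd (by decide) n4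
  generalize Nat.card (zpowers s').normalizerMonoidHom.range = k at *
  generalize (normalizer (P : Set 𝐜(t))).index = n at *
  rw [show Nat.totient 7 = 6 from rfl] at *
  unfold Nat.ModEq at n1
  interval_cases k <;> omega

theorem tr {G X : Type*} [Group G] [Group X] [Finite G] {t : G} (ht : orderOf t = 2) (e : 𝐜(t) ≃* X) {Q E : Subgroup X}
    [n : Q.Normal] (ex : IsExtraspecial 2 Q) (cd : Nat.card Q = 128) (cz : 𝐂(Q) ≤ Q) (EQ : E ≤ Q)
    (ea : IsElementaryAbelian 2 E) (cE : Nat.card E = 16) (mx : ∀ N : Subgroup X, N.Normal → Q ≤ N → N = Q ∨ N = ⊤) :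
    ∃ R, Rx t R ∧ R ≤ 𝐜(t) ∧ 𝐜(t) ≤ 𝐍(R) ∧ ∀ N, R ≤ N → N ≤ 𝐜(t) → 𝐜(t) ≤ 𝐍(N) → N = R ∨ N = 𝐜(t) := by
  obtain ⟨j, i, r⟩ : ∃ j : X →* G, Function.Injective j ∧ j.range = 𝐜(t) :=
    ⟨(Subgroup.subtype _).comp e.symm.toMonoidHom, Subtype.val_injective.comp e.symm.injective,
      le_antisymm (by rintro _ ⟨x, rfl⟩; exact (e.symm x).2) fun x h => ⟨e ⟨x, h⟩, by simp⟩⟩
  clear e
  have l : ∀ H : Subgroup X, H.map j ≤ 𝐜(t) := fun H => r ▸ map_le_range j H
  obtain ⟨τ, rfl⟩ : t ∈ j.range := r ▸ mem_centralizer_singleton_iff.2 rfl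
  have tQ : τ ∈ Q := cz fun x _ => i (by
    rw [map_mul, map_mul]; exact mem_centralizer_singleton_iff.1 (r ▸ ⟨x, rfl⟩ : j x ∈ 𝐜(j τ)))
  refine ⟨Q.map j, ⟨CF.Even.isExtraspecial_of_equiv ex (Q.equivMapOfInjective j i), by rw [card_map_of_injective i, cd],
    ⟨τ, tQ, rfl⟩, E.map j ⊔ zpowers (j τ), sup_le (map_mono EQ) (zpowers_le.2 ⟨τ, tQ, rfl⟩),
    mem_sup_right (mem_zpowers _), isElemAb_sup (isElemAb_map j ea) ⟨inferInstance, ?_⟩ (centralizer_zpowers (j τ) ▸ l E), ?_⟩,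
    l Q, r ▸ ?_, fun N h1 h2 h3 => ?_⟩
  · rintro _ ⟨k, rfl⟩
    rw [← zpow_natCast, ← zpow_mul, mul_comm, zpow_mul, zpow_natCast, ← ht, pow_orderOf_eq_one, one_zpow]
  · exact ((card_map_of_injective i).trans cE).ge.trans (card_le_of_le le_sup_left)
  · rw [MonoidHom.range_eq_map, ← normalizer_eq_top Q]
    exact le_normalizer_map j
  · have a := map_comap_eq_self (f := j) (H := N) (r ▸ h2)
    rcases mx (N.comap j) ⟨fun x hx g => by
      simpa using conj_mem_of_mem_normalizer (h3 (r ▸ ⟨g, rfl⟩ : j g ∈ 𝐜(j τ))) hx⟩ (map_le_iff_le_comap.1 h1) with b | b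
    · exact .inl (b ▸ a.symm)
    · exact .inr (by rw [← a, b, ← MonoidHom.range_eq_map, r])

end HI

theorem hi {t s : Spor.He} (ht : orderOf t = 2) (hs : orderOf s = 7) (c : Commute t s)
    (h : Nat.card ↥(𝐜(t) ⊓ 𝐜(s)) ≤ 14) : Nat.card 𝐜(t) = 21504 ∧ ∃ R, Rx t R ∧ R ≤ 𝐜(t) ∧ 𝐜(t) ≤ 𝐍(R) ∧
      ∀ N, R ≤ N → N ≤ 𝐜(t) → 𝐜(t) ≤ 𝐍(N) → N = R ∨ N = 𝐜(t) := by
  have : Finite Spor.He := Nat.finite_of_card_ne_zero (by rw [CF.Comp.He.card]; decide)
  let σ : Matrix.SpecialLinearGroup (Fin 5) (ZMod 2) := ⟨Matrix.transvection 0 1 1, Matrix.det_transvection_of_ne _ _ (by decide) _⟩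
  have c0 := Cfsg.Agent.S0445.result σ rfl
  obtain ⟨z, z2, ⟨e⟩⟩ := Cfsg.Agent.S2134.result σ rfl
  obtain ⟨a, -, ha⟩ := HI.cls
  obtain ⟨g, rfl⟩ := isConj_iff.1 (((ha z z2).resolve_right (by rw [Nat.card_congr e.toEquiv, c0]; decide)).symm.trans
    ((ha t ht).resolve_right (HI.not_big ht hs c h)))
  replace e := (HI.ce g z).symm.trans e
  generalize g * z * g⁻¹ = t at *
  refine ⟨(Nat.card_congr e.toEquiv).trans c0, ?_⟩
  obtain ⟨q1, q2, ⟨E, E1, E2, E3⟩, ⟨-, q3, -⟩, K, K1, K2, K3, ⟨k⟩⟩ := Cfsg.Agent.S5424.result 3 (by decide) σ rfl _ rfl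
  have n : (pCore 2 𝐜(σ)).Normal := inferInstance
  have i := subtype_injective 𝐜(σ)
  have E4 := E1.trans (map_subtype_le _)
  refine HI.tr ht e (Q := pCore 2 𝐜(σ)) (E := E.subgroupOf _) (CF.Even.isExtraspecial_of_equiv q1
    (equivMapOfInjective _ _ i).symm) ((card_map_of_injective i).symm.trans q2) (fun x hx => mem_pCore_iff.2 ?_)
    (fun x hx => mem_pCore_iff.2 (E1 hx)) (isElemAb_subgroupOf E2 _)
    ((Nat.card_congr (subgroupOfEquivOfLe E4).toEquiv).trans E3) fun N hN l => ?_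
  · refine map_subtype_le _ (q3.le ?_)
    rintro _ ⟨y, hy, rfl⟩
    exact congrArg Subtype.val (hx y hy)
  have := CF.Bt.simple_SL3
  have := k.isSimpleGroup
  have d : ∀ x : 𝐜(σ), ∃ q ∈ pCore 2 𝐜(σ), ∃ y : K, x = q * inclusion K1 y := fun x => by
    have : x ∈ pCore 2 𝐜(σ) ⊔ K.subgroupOf 𝐜(σ) := by
      rw [← mem_map_iff_mem i, Subgroup.map_sup, subgroupOf_map_subtype, inf_eq_left.2 K1, K3]
      exact x.2
    obtain ⟨q, hq, y, hy, rfl⟩ := mem_sup_of_normal_left.1 this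
    exact ⟨q, hq, ⟨y, hy⟩, rfl⟩
  rcases (hN.comap (inclusion K1)).eq_bot_or_eq_top with b | b
  · refine .inl (le_antisymm (fun x hx => ?_) l)
    obtain ⟨q, hq, y, rfl⟩ := d x
    obtain rfl : y = 1 := b.le ((mul_mem_cancel_left (l hq)).1 hx)
    simpa using hq
  · refine .inr (top_unique fun x _ => ?_)
    obtain ⟨q, hq, y, rfl⟩ := d x
    exact mul_mem (l hq) (b.ge (mem_top y))

end CF.Sv
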