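import Cfsg.Agent.Sv.C1a
import Cfsg.Agent.Sv.HI

/-! The structure of the involution centralizer along `E`. -/

set_option autoImplicit false

namespace CF.Sv

theorem Ce.cf {C : Type*} [Group C] [Finite C] {z : C} {E : Subgroup C} (h : Ce z E) : Cf z E :=
  C1.cf0 (fun t ht => by rcases HI.two t ht with e | e <;> rw [e] <;> decide) hi h

end CF.Sv
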