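import Cfsg.Agent.Sv.CL0
import Cfsg.Agent.Sv.PL
import Cfsg.Agent.S2069
import Cfsg.Agent.S2083
import Cfsg.Agent.S2084

/-! S3024: the quotient of the involution centralizer is simple and known. -/

set_option autoImplicit false
set_option linter.style.haveILetI false

namespace CF.Sv

open Cfsg Subgroup CF.Loc MulAction CL

universe u

variable {C : Type u} [Group C] [Finite C] {E N L : Subgroup C} {a b g x : C}

namespace CL

omit [Finite C] in
theorem inner {X : Type*} [Group X] (e : C ≃* X) (h : Nat.card (Out X) = 1) (α : MulAut C) :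
    ∃ l, ∀ x, α x = l * x * l⁻¹ := by
  obtain ⟨l, q⟩ : (e.symm.trans α).trans e ∈ Inn X := (index_eq_one.1 h).ge (mem_top _)
  refine ⟨e.symm l, fun x => e.injective ?_⟩
  simpa using (congrArg (fun β : MulAut X => β (e x)) q).symm

theorem meet (h : Cb E) {H : Subgroup C} (hE : E ≤ H) (l : N ≤ H) (n : H ≤ 𝐍(N)) (d : 7 ∣ Nat.card N) :
    ∃ g ∈ E, g ≠ 1 ∧ g ∈ N := by
  obtain ⟨x, o⟩ := exists_prime_orderOf_dvd_card' 7 d
  rw [← orderOf_coe] at o
  obtain ⟨c, hc, m⟩ := h.conj (o ▸ pow_orderOf_eq_one (x : C)) hE (l x.2)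
  refine ⟨_, m, fun e => ?_, conj_mem_of_mem_normalizer (n hc) x.2⟩
  rw [conj_eq_one_iff.1 e, orderOf_one] at o
  omega

theorem le_normal (h : Cb E) [n : N.Normal] (n0 : N ≠ ⊥) : E ≤ N := by
  obtain ⟨g, hg⟩ := meet h le_top le_top (normalizer_eq_top N).ge (by_contra fun c => n0 (h.o7 N n c))
  have := pl h.ea h.e49 h.syl h.cE h.τ (Y := {x | x ∈ E ⊓ N ∧ x ≠ 1}) (fun g hg => ⟨hg.1.1, hg.2⟩)
    (fun g hg x hx x1 => ⟨zpowers_le.2 hg.1 hx, x1⟩) (fun g hg m hm => ⟨⟨conj_mem_of_mem_normalizer hm hg.1.1,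
      n.conj_mem g hg.1.2 m⟩, mt conj_eq_one_iff.1 hg.2⟩) ⟨g, ⟨hg.1, hg.2.2⟩, hg.2.1⟩
  rw [ncard_ne] at this
  have d := card_dvd_of_le (inf_le_left : E ⊓ N ≤ E)
  rw [h.e49] at d
  refine inf_eq_left.1 (eq_of_le_of_card_ge inf_le_left ?_)
  rw [h.e49]
  rcases this with e | e
  · rw [show Nat.card ↥(E ⊓ N) = 25 by omega] at d; omega
  · omega

theorem cen_le (h : Cb E) [n : L.Normal] (l : E ≤ L) (hg : g ∈ E) (g1 : g ≠ 1) : 𝐜(g) ≤ L :=
  inf_eq_right.1 (h.gen g hg g1 _ (le_inf l (h.le_c hg)) inf_le_right fun c hc => mem_normalizer_of_conj_mem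
    fun x hx => ⟨n.conj_mem x hx.1 c, (𝐜(g)).mul_mem (mul_mem hc hx.2) (inv_mem hc)⟩)

theorem three (h : Cb E) (hg : g ∈ E) (g1 : g ≠ 1) : ∃ n ∈ 𝐍(E), ∃ a ∈ zpowers (n * g * n⁻¹), ∃ m ∈ 𝐍(E),
    ∃ b ∈ zpowers (m * g * m⁻¹), a ∉ zpowers g ∧ b ∉ zpowers g ∧ b ∉ zpowers a := by
  have := pl h.ea h.e49 h.syl h.cE h.τ (Y := {x | x ≠ 1 ∧ ∃ n ∈ 𝐍(E), x ∈ zpowers (n * g * n⁻¹)})
    (fun x ⟨x1, n, hn, hx⟩ => ⟨zpowers_le.2 (conj_mem_of_mem_normalizer hn hg) hx, x1⟩)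
    (fun x ⟨_, n, hn, hx⟩ y hy y1 => ⟨y1, n, hn, zpowers_le.2 hx hy⟩)
    (fun x ⟨x1, n, hn, hx⟩ m hm => ⟨mt conj_eq_one_iff.1 x1, m * n, mul_mem hm hn, by
      simpa [cj_zpowers, mul_assoc] using conj_mem_cj m hx⟩) ⟨g, g1, 1, one_mem _, by simp⟩
  have k : ∀ a ∈ E, a ≠ 1 → ∃ m ∈ 𝐍(E), ∃ b ∈ zpowers (m * g * m⁻¹), b ∉ zpowers g ∧ b ∉ zpowers a := fun a ha a1 => by
    by_contra! c
    have l := Set.ncard_le_ncard (s := {x | x ≠ 1 ∧ ∃ n ∈ 𝐍(E), x ∈ zpowers (n * g * n⁻¹)})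
      (t := (zpowers g : Set C) ∪ zpowers a) fun x ⟨_, n, hn, hx⟩ => or_iff_not_imp_left.2 (c n hn x hx)
    have l' := Set.ncard_union_le (zpowers g : Set C) (zpowers a)
    have e1 : (zpowers g : Set C).ncard = 7 := h.cardz hg g1
    have e2 : (zpowers a : Set C).ncard = 7 := h.cardz ha a1
    omega
  obtain ⟨n, hn, a, ha, a1, -⟩ := k g hg g1
  obtain ⟨m, hm, b, hb, b1, b2⟩ := k a (zpowers_le.2 (conj_mem_of_mem_normalizer hn hg) ha) (by rintro rfl; simp at a1)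
  exact ⟨n, hn, a, ha, m, hm, b, hb, a1, b1, b2⟩

theorem le_sub (h : Cb E) [n : L.Normal] (l : E ≤ L) (n0 : N ≠ ⊥) (l1 : N ≤ L) (l2 : L ≤ 𝐍(N)) : E ≤ N := by
  obtain ⟨M, ⟨m0, m1, m2⟩, mn⟩ := WellFounded.has_min (wellFounded_lt (α := Subgroup C))
    {M | M ≠ ⊥ ∧ M ≤ N ∧ L ≤ 𝐍(M)} ⟨N, n0, le_rfl, l2⟩
  refine le_trans (by_contra fun c => ?_) m1
  have m3 := m1.trans l1
  obtain ⟨g, hg, g1, gm⟩ := meet h l m3 m2 (by_contra fun d => m0 (h.o7 _ inferInstance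
    CF.Solv.not_dvd_card_pPrimeCore ▸ le_bot_iff.1 ((CF.Solv.le_map_pPrimeCore m3 m2
      ((Nat.Prime.coprime_iff_not_dvd (by decide)).2 d).symm).trans ((CF.Solv.map_pPrimeCore_of_normal L).trans_le
        (inf_le_left.trans (h.o7 _ inferInstance CF.Solv.not_dvd_card_pPrimeCore).le)))))
  have k : ∀ y ∈ E, y ∈ M → y ∈ zpowers g := fun y hy m => by_contra fun q =>
    c ((h.eq_sup hg g1 hy q).ge.trans (sup_le (zpowers_le.2 gm) (zpowers_le.2 m)))
  have cm : ∀ t ∈ 𝐍(E), ∀ a ∈ zpowers (t * g * t⁻¹), a ∉ zpowers g → ∀ x ∈ M, x * a = a * x := fun t ht a ha q x hx => by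
    have n1 : L ≤ 𝐍(cj[t] M) := by rw [← cj_normalizer, ← cj_normal t L]; exact cj_mono t m2
    have a1 : a ∈ cj[t] M := zpowers_le.2 (conj_mem_cj t gm) ha
    have a2 : a ∈ L := (cj_normal t L).le (cj_mono t m3 a1)
    have e : M ⊓ cj[t] M = ⊥ := by_contra fun e => mn _ ⟨e, inf_le_left.trans m1, fun y hy =>
      inf_normalizer_le_normalizer_inf ⟨m2 hy, n1 hy⟩⟩ (inf_lt_left.2 fun l3 => q (k a
        (zpowers_le.2 (conj_mem_of_mem_normalizer ht hg) ha) ((eq_of_le_of_card_ge l3 (card_cj t M).le).ge a1)))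
    have : x * a * x⁻¹ * a⁻¹ ∈ M ⊓ cj[t] M := ⟨by
      simpa [mul_assoc] using mul_mem hx (conj_mem_of_mem_normalizer (m2 a2) (inv_mem hx)),
      (cj[t] M).mul_mem (conj_mem_of_mem_normalizer (n1 (m3 hx)) a1) (inv_mem a1)⟩
    rwa [e, mem_bot, mul_inv_eq_one, mul_inv_eq_iff_eq_mul] at this
  obtain ⟨t, ht, a, ha, s, hs, b, hb, q1, q2, q3⟩ := three h hg g1
  have a0 := zpowers_le.2 (conj_mem_of_mem_normalizer ht hg) ha
  have a1 : a ≠ 1 := by rintro rfl; simp at q1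
  have e : M = zpowers g := le_antisymm (fun x hx => k x (h.mem_of a0 a1
    (zpowers_le.2 (conj_mem_of_mem_normalizer hs hg) hb) q3 (cm t ht a ha q1 x hx) (cm s hs b hb q2 x hx)) hx)
    (zpowers_le.2 gm)
  have := h.gen a a0 a1 E le_rfl (h.le_c a0) fun y hy => mem_normalizer_of_cj_le (by
    rw [← h.eq_sup hg g1 a0 q1, cj_sup, cj_eq_self (e ▸ m2 (cen_le h l a0 a1 hy)), cj_zpowers,
      mem_centralizer_singleton_iff.1 hy, mul_inv_cancel_right])
  have c := h.cc a a0 a1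
  rw [← this, h.e49] at c
  omega

omit [Finite C] in
theorem map_cen {y : L} (l : 𝐜((y : C)) ≤ L) : (𝐜(y)).map L.subtype = 𝐜((y : C)) := le_antisymm (by
  rintro _ ⟨x, hx, rfl⟩
  exact mem_centralizer_singleton_iff.2 (congrArg Subtype.val (mem_centralizer_singleton_iff.1 hx))) fun x hx =>
    ⟨⟨x, l hx⟩, mem_centralizer_singleton_iff.2 (Subtype.ext (mem_centralizer_singleton_iff.1 hx)), rfl⟩

end CL

theorem CL.cl1 (kl2 : ∀ {L : Type u} [Group L] [Finite L], IsKnownSimple' L → 49 ∣ Nat.card L → ¬ 343 ∣ Nat.card L →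
    (∀ g : L, orderOf g = 7 → 1176 ≤ Nat.card 𝐜(g) ∧ Nat.card 𝐜(g) ≤ 75264) → ∀ {y : L}, orderOf y = 7 →
      ∀ π : 𝐜(y) →* A7, Function.Surjective π → (∀ g, π g = 1 → (g : L) ∈ zpowers y) →
        Spor.IsoCo1 L ∨ Spor.IsoTh L ∨ Spor.IsoB L) (h : Cb E) : Spor.IsoCo1 C ∨ Spor.IsoTh C ∨ Spor.IsoB C := by
  obtain ⟨y, hy, y1, π, hπ, k⟩ := h.ex
  obtain ⟨L, ⟨l0, n⟩, mn⟩ := WellFounded.has_min (wellFounded_lt (α := Subgroup C)) {M | M ≠ ⊥ ∧ M.Normal}
    ⟨⊤, fun e => y1 (mem_bot.1 (e.le (mem_top y))), inferInstance⟩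
  have l := le_normal h l0
  haveI s : IsSimpleGroup L := by
    haveI := (nontrivial_iff_ne_bot L).2 l0
    refine ⟨fun N hN => or_iff_not_imp_left.2 fun n0 => ?_⟩
    have a : E ≤ (N.map L.subtype).normalCore := fun x hx c => by
      have := le_sub h l (N := cj[c⁻¹] (N.map L.subtype)) (fun e => n0 ((map_eq_bot_iff_of_injective _
        L.subtype_injective).1 (cj_eq_bot_iff.1 e))) ((cj_mono _ (map_subtype_le N)).trans (cj_normal _ L).le) (by
          rw [← cj_normalizer]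
          exact (cj_normal c⁻¹ L).ge.trans (cj_mono _ fun t ht => mem_normalizer_of_conj_mem (by
            rintro _ ⟨u, hu, rfl⟩; exact ⟨_, hN.conj_mem u hu ⟨t, ht⟩, rfl⟩))) hx
      rwa [mem_cj, inv_inv] at this
    have b := mn _ ⟨fun e => y1 (mem_bot.1 (e.le (a hy))), inferInstance⟩
    have c : L ≤ N.map L.subtype := ((eq_of_le_of_not_lt ((normalCore_le _).trans (map_subtype_le N)) b).ge).trans
      (normalCore_le _)
    exact eq_top_iff.2 fun x _ => (mem_map_iff_mem L.subtype_injective).1 (c x.2)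
  have c7 : ∀ g : L, orderOf g = 7 → 𝐜((g : C)) ≤ L ∧ ∃ g' ∈ E, g' ≠ 1 ∧ Nat.card 𝐜((g : C)) = Nat.card 𝐜(g') :=
    fun g o => by
      rw [← orderOf_coe] at o
      obtain ⟨c, -, m⟩ := h.conj (o ▸ pow_orderOf_eq_one (g : C)) le_top trivial
      have g1 : c * g * c⁻¹ ≠ 1 := fun e => by rw [conj_eq_one_iff.1 e, orderOf_one] at o; omega
      have := cen_le h l m g1
      rw [← cj_centralizer_singleton] at this
      exact ⟨cj_le_cj_iff.1 (this.trans (cj_normal c L).ge), _, m, g1, (card_cen c g).symm⟩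
  have e := map_cen (y := ⟨y, l hy⟩) (cen_le h l hy y1)
  have kn := kl2 (CF.Even.IsKGroup.known_self (CF.Even.IsKGroup.subgroup h.kg L) s fun c => ?_) (h.e49 ▸ card_dvd_of_le l)
    (fun d => h.syl (d.trans (card_subgroup_dvd_card L))) (fun g o => ?_) (y := ⟨y, l hy⟩)
    ((orderOf_coe _).symm.trans (h.ord hy y1)) (π.comp ((MulEquiv.subgroupCongr e).toMonoidHom.comp
      (L.subtype.subgroupMap _))) (hπ.comp ((MulEquiv.subgroupCongr e).surjective.comp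
        (L.subtype.subgroupMap_surjective _))) fun g q => ?_
  · have t : ∀ {X : Type} [Group X], Nat.card (Out X) = 1 → Nonempty (L ≃* X) → Nonempty (C ≃* X) :=
      fun o ⟨e⟩ => by
        have : L = ⊤ := eq_top_iff.2 fun c _ => by
          obtain ⟨u, q⟩ := inner e o (MulAut.conjNormal c)
          have : (u : C)⁻¹ * c ∈ E := h.cE fun x hx => by
            have : c * x * c⁻¹ = u * x * (u : C)⁻¹ := congrArg Subtype.val (q ⟨x, l hx⟩)
            calc x * ((u : C)⁻¹ * c) = (u : C)⁻¹ * (u * x * (u : C)⁻¹) * c := by group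
              _ = _ := by rw [← this]; group
          simpa using mul_mem u.2 (l this)
        subst this
        exact ⟨topEquiv.symm.trans e⟩
    exact kn.imp (t Cfsg.Agent.S2069.result) (Or.imp (t Cfsg.Agent.S2083.result) (t Cfsg.Agent.S2084.result))
  · have : 𝐜(y) ≤ E := fun x hx => h.cE fun u hu =>
      congrArg Subtype.val (c.is_comm.comm ⟨u, l hu⟩ ⟨x, cen_le h l hy y1 hx⟩)
    have := card_le_of_le this
    have := h.cc y hy y1
    have := h.e49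
    omega
  · obtain ⟨a, g', b, c, d⟩ := c7 g o
    rw [← card_map_of_injective L.subtype_injective, map_cen a, d]
    have := h.cc g' b c
    omega
  · obtain ⟨i, hi⟩ := k _ q
    exact ⟨i, Subtype.ext hi⟩

end CF.Sv
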