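import Cfsg.Agent.Sv.CL0
import Cfsg.Agent.Sv.PL
import Cfsg.Agent.S0399
import Cfsg.Agent.S1700
import Cfsg.Agent.S1704

/-! S3024: the quotient of the involution centralizer is `Co₁`. -/

set_option autoImplicit false
set_option linter.style.haveILetI false

namespace CF.Sv

open Cfsg Subgroup CF.Loc MulAction CL

variable {C : Type*} [Group C] [Finite C] {E : Subgroup C} {a b g x : C}

namespace CL2

variable (h : Cb E)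
include h

theorem cen_eq (hg : g ∈ E) (hx : x ∈ zpowers g) (x1 : x ≠ 1) : 𝐜(x) = 𝐜(g) := by
  rw [← centralizer_closure, ← zpowers_eq_closure, h.zp_eq hg x1 hx, zpowers_eq_closure, centralizer_closure]

theorem pl1 (hg : g ∈ E) (g1 : g ≠ 1) : {x | x ≠ 1 ∧ ∃ n ∈ 𝐍(E), x ∈ zpowers (n * g * n⁻¹)}.ncard = 24 ∨
    {x | x ≠ 1 ∧ ∃ n ∈ 𝐍(E), x ∈ zpowers (n * g * n⁻¹)}.ncard = 48 :=
  pl h.ea h.e49 h.syl h.cE h.τ (fun x ⟨x1, n, hn, hx⟩ => ⟨zpowers_le.2 (conj_mem_of_mem_normalizer hn hg) hx, x1⟩)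
    (fun x ⟨_, n, hn, hx⟩ y hy y1 => ⟨y1, n, hn, zpowers_le.2 hx hy⟩)
    (fun x ⟨x1, n, hn, hx⟩ m hm => ⟨mt conj_eq_one_iff.1 x1, m * n, mul_mem hm hn, by
      simpa [cj_zpowers, mul_assoc] using conj_mem_cj m hx⟩) ⟨g, g1, 1, one_mem _, by simp⟩

theorem plc (P : ℕ → Prop) (ne : {x | x ∈ E ∧ x ≠ 1 ∧ P (Nat.card 𝐜(x))}.Nonempty) :
    {x | x ∈ E ∧ x ≠ 1 ∧ P (Nat.card 𝐜(x))}.ncard = 24 ∨ {x | x ∈ E ∧ x ≠ 1 ∧ P (Nat.card 𝐜(x))}.ncard = 48 :=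
  pl h.ea h.e49 h.syl h.cE h.τ (fun _ hx => ⟨hx.1, hx.2.1⟩)
    (fun x hx y hy y1 => ⟨zpowers_le.2 hx.1 hy, y1, by rw [cen_eq h hx.1 hy y1]; exact hx.2.2⟩)
    (fun x hx m hm => ⟨conj_mem_of_mem_normalizer hm hx.1, mt conj_eq_one_iff.1 hx.2.1, by
      rw [card_cen]; exact hx.2.2⟩) ne

theorem four (hg : g ∈ E) (g1 : g ≠ 1) : 4 ∣ Nat.card 𝐍(E) := by
  letI : MulAction (𝐍(E) × (ZMod 7)ˣ) E :=
    { smul := fun n x => ⟨n.1 * x ^ (n.2 : ZMod 7).val * (n.1 : C)⁻¹, conj_mem_of_mem_normalizer n.1.2 (pow_mem x.2 _)⟩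
      one_smul := fun x => Subtype.ext (by
        change ((1 : 𝐍(E)) : C) * x ^ (1 : ZMod 7).val * ((1 : 𝐍(E)) : C)⁻¹ = x
        simp [ZMod.val_one])
      mul_smul := fun m n x => Subtype.ext (by
        change ((m.1 * n.1 : 𝐍(E)) : C) * x ^ ((m.2 : ZMod 7) * n.2).val * ((m.1 * n.1 : 𝐍(E)) : C)⁻¹ =
          m.1 * (n.1 * x ^ (n.2 : ZMod 7).val * (n.1 : C)⁻¹) ^ (m.2 : ZMod 7).val * (m.1 : C)⁻¹
        rw [conj_pow, ← pow_mul, ZMod.val_mul, ← pow_eq_pow_mod _ (h.ea.2 x x.2), mul_comm (m.2 : ZMod 7).val]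
        simp [mul_assoc]) }
  have e : {x | x ≠ 1 ∧ ∃ n ∈ 𝐍(E), x ∈ zpowers (n * g * n⁻¹)} = (↑) '' orbit (𝐍(E) × (ZMod 7)ˣ) (⟨g, hg⟩ : E) := by
    ext x
    constructor
    · rintro ⟨x1, n, hn, hx⟩
      obtain ⟨k, rfl⟩ := mem_powers_iff_mem_zpowers.2 hx
      have k0 : (k : ZMod 7) ≠ 0 := fun c => x1 (by
        obtain ⟨l, rfl⟩ := (ZMod.natCast_eq_zero_iff _ _).1 c
        simp only [pow_mul, conj_pow, h.ea.2 g hg]; simp)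
      refine ⟨_, ⟨(⟨n, hn⟩, Units.mk0 _ k0), rfl⟩, ?_⟩
      change n * g ^ (k : ZMod 7).val * n⁻¹ = (n * g * n⁻¹) ^ k
      rw [ZMod.val_natCast, ← pow_eq_pow_mod _ (h.ea.2 g hg), conj_pow]
    · rintro ⟨_, ⟨n, rfl⟩, rfl⟩
      refine ⟨fun c => ?_, n.1, n.1.2, ?_⟩
      · have c' : n.1 * g ^ (n.2 : ZMod 7).val * (n.1 : C)⁻¹ = 1 := c
        rw [conj_eq_one_iff, ← orderOf_dvd_iff_pow_eq_one, h.ord hg g1, ← ZMod.natCast_eq_zero_iff,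
          ZMod.natCast_zmod_val] at c'
        exact n.2.ne_zero c'
      · change n.1 * g ^ _ * (n.1 : C)⁻¹ ∈ _
        rw [← conj_pow]; exact pow_mem (mem_zpowers _) _
  have d := (stabilizer (𝐍(E) × (ZMod 7)ˣ) (⟨g, hg⟩ : E)).index_dvd_card
  rw [index_stabilizer, ← Set.ncard_image_of_injective _ Subtype.val_injective, ← e, Nat.card_prod,
    show Nat.card (ZMod 7)ˣ = 6 by rw [Nat.card_eq_fintype_card, ZMod.card_units]] at d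
  rcases pl1 h hg g1 with q | q <;> rw [q] at d <;> omega

theorem num (hg : g ∈ E) (g1 : g ≠ 1) : ∃ m ∈ ({12, 24, 36, 48, 72, 144} : Finset ℕ),
    Nat.card (Sylow 7 C) * (49 * m) = Nat.card C := by
  obtain ⟨m, e⟩ := card_dvd_of_le (le_normalizer (H := E))
  obtain ⟨j, q⟩ := card_dvd_of_le (inf_le_left : 𝐍(E) ⊓ 𝐜(g) ≤ _)
  have d : j ∣ {x | x ∈ E ∧ x ≠ 1}.ncard := orb_dvd (N := 𝐍(E)) (X := {x | x ∈ E ∧ x ≠ 1}) (fun n hn x hx =>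
    ⟨conj_mem_of_mem_normalizer hn hx.1, mt conj_eq_one_iff.1 hx.2⟩) fun x hx => by
      rw [q, h.nc hx.1 hx.2, h.nc hg g1]
  have s : Nat.card (Sylow 7 C) * Nat.card 𝐍(E) = Nat.card C := by
    obtain ⟨S, rfl⟩ := h.exS
    rw [S.card_eq_index_normalizer]
    exact index_mul_card _
  have f := four h hg g1
  rw [e, h.e49] at s
  rw [ncard_ne, h.e49] at d
  rw [h.nc hg g1, e, h.e49] at q
  rw [e, h.e49] at f
  refine ⟨m, ?_, s⟩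
  have : j ≤ 48 := Nat.le_of_dvd (by decide) d
  simp only [Finset.mem_insert, Finset.mem_singleton]
  interval_cases j <;> omega

theorem pts {Y : Set C} (hY : ∀ x ∈ Y, x ∈ E ∧ x ≠ 1) (pw : ∀ x ∈ Y, ∀ y ∈ zpowers x, y ≠ 1 → y ∈ Y)
    (c : Y.ncard = 24) : ∃ x : Fin 4 → C, (∀ i, x i ∈ Y) ∧ (∀ i j, x i ∈ zpowers (x j) → i = j) ∧
      ∀ y ∈ Y, ∃ i, y ∈ zpowers (x i) := by
  classical
  haveI := Fintype.ofFinite C
  have e := Finset.card_eq_sum_card_image (fun x : C => zpowers x) Y.toFinset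
  rw [← Set.ncard_eq_toFinset_card', c, Finset.sum_congr rfl (g := fun _ => 6) fun P hP => ?_, Finset.sum_const,
    smul_eq_mul] at e
  · have q := Finset.equivFinOfCardEq (s := Y.toFinset.image fun x : C => zpowers x) (n := 4) (by omega)
    choose x x1 x2 using fun i => Finset.mem_image.1 (q.symm i).2
    rw [← funext_iff] at x2
    have x0 := fun i => Set.mem_toFinset.1 (x1 i)
    refine ⟨x, x0, fun i j m => q.symm.injective (Subtype.ext ?_), fun y hy => ?_⟩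
    · exact (congrFun x2 i).symm.trans ((h.zp_eq (hY _ (x0 j)).1 (hY _ (x0 i)).2 m).trans (congrFun x2 j))
    · refine ⟨q ⟨_, Finset.mem_image_of_mem _ (Set.mem_toFinset.2 hy)⟩, ?_⟩
      rw [show zpowers (x _) = _ from congrFun x2 _, Equiv.symm_apply_apply]
      exact mem_zpowers y
  obtain ⟨x, hx, rfl⟩ := Finset.mem_image.1 hP
  rw [Set.mem_toFinset] at hx
  rw [← Set.ncard_coe_finset, show 6 = 7 - 1 from rfl, ← h.cardz (hY x hx).1 (hY x hx).2, ← ncard_ne]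
  congr 1
  ext y
  simp only [Finset.coe_filter, Set.mem_toFinset, Set.mem_setOf_eq]
  exact ⟨fun q => ⟨q.2 ▸ mem_zpowers y, (hY y q.1).2⟩, fun q => ⟨pw x hx y q.1 q.2, h.zp_eq (hY x hx).1 q.2 q.1⟩⟩

theorem split : ∃ k ∈ ({120, 8, 64, 512} : Finset ℕ), 49 ∣ Nat.card (Sylow 7 C) + (24 * 120 + 24 * k) ∧
    (k = 8 → {x | x ∈ E ∧ x ≠ 1 ∧ Nat.card 𝐜(x) = 1176}.ncard = 24 ∧
      ∀ g ∈ E, g ≠ 1 → Nat.card 𝐜(g) = 17640 ∨ Nat.card 𝐜(g) = 1176) := by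
  obtain ⟨y, hy, y1, π, hπ, k⟩ := h.ex
  have c : Nat.card 𝐜(y) = 17640 := by
    have a := card_mul_index π.ker
    have b : Nat.card π.ker ≤ 7 := by
      refine le_of_le_of_eq ?_ (h.cardz hy y1)
      rw [← card_map_of_injective (subtype_injective _)]
      exact card_le_of_le (by rintro _ ⟨x, hx, rfl⟩; exact k x hx)
    rw [index_ker, MonoidHom.range_eq_top.2 hπ, card_top, card_A7] at a
    have := h.cc y hy y1
    omega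
  have t : {x | x ∈ E ∧ x ≠ 1}.ncard = 48 := by rw [ncard_ne, h.e49]
  have u : ∀ P Q : ℕ → Prop, (∀ n, P n → ¬ Q n) → {x | x ∈ E ∧ x ≠ 1 ∧ P (Nat.card 𝐜(x))}.ncard +
      {x | x ∈ E ∧ x ≠ 1 ∧ Q (Nat.card 𝐜(x))}.ncard = {x | x ∈ E ∧ x ≠ 1 ∧ (P (Nat.card 𝐜(x)) ∨ Q (Nat.card 𝐜(x)))}.ncard :=
    fun P Q d => by
      rw [← Set.ncard_union_eq (Set.disjoint_left.2 fun x a b => d _ a.2.2 b.2.2)]
      congr 1; ext; simp only [Set.mem_union, Set.mem_setOf_eq]; tauto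
  have p1 := plc h (· = 17640) ⟨y, hy, y1, c⟩
  by_cases a : ∀ g ∈ E, g ≠ 1 → Nat.card 𝐜(g) = 17640
  · have := h.burn (Y := {x | x ∈ E ∧ x ≠ 1}) (Y' := ∅) (k := 120) (k' := 0) (by simp) (by simp)
      (fun x hx => a x hx.1 hx.2) (by simp)
    rw [t] at this
    exact ⟨120, by decide, by simpa using this, by omega⟩
  push Not at a
  obtain ⟨g, hg, g1, n⟩ := a
  have p2 := plc h (· = Nat.card 𝐜(g)) ⟨g, hg, g1, rfl⟩
  have s := u (· = 17640) (· = Nat.card 𝐜(g)) fun _ a b => n (b.symm.trans a)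
  have l : {x | x ∈ E ∧ x ≠ 1 ∧ (Nat.card 𝐜(x) = 17640 ∨ Nat.card 𝐜(x) = Nat.card 𝐜(g))} ⊆ {x | x ∈ E ∧ x ≠ 1} :=
    fun _ q => ⟨q.1, q.2.1⟩
  have l' := Set.ncard_le_ncard l
  have e := Set.eq_of_subset_of_ncard_le l (by omega)
  have o : ∀ x ∈ E, x ≠ 1 → Nat.card 𝐜(x) = 17640 ∨ Nat.card 𝐜(x) = Nat.card 𝐜(g) := fun x a b => (e.ge ⟨a, b⟩).2.2
  obtain ⟨j, j1, j2⟩ : ∃ j ∈ ({120, 8, 64, 512} : Finset ℕ), Nat.card 𝐜(g) = 147 * j := by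
    rcases h.cc g hg g1 with q | q | q | q
    exacts [⟨120, by decide, q⟩, ⟨8, by decide, q⟩, ⟨64, by decide, q⟩, ⟨512, by decide, q⟩]
  have := h.burn (Y := {x | x ∈ E ∧ x ≠ 1 ∧ Nat.card 𝐜(x) = 17640})
    (Y' := {x | x ∈ E ∧ x ≠ 1 ∧ Nat.card 𝐜(x) = Nat.card 𝐜(g)}) (k := 120) (k' := j)
    (fun x => ⟨fun q => (o x q.1 q.2).imp (⟨q.1, q.2, ·⟩) (⟨q.1, q.2, ·⟩), fun q =>
      q.elim (fun r => ⟨r.1, r.2.1⟩) fun r => ⟨r.1, r.2.1⟩⟩)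
    (Set.disjoint_left.2 fun x a b => n (b.2.2.symm.trans a.2.2)) (fun x hx => hx.2.2) fun x hx => hx.2.2.trans j2
  have q1 : {x | x ∈ E ∧ x ≠ 1 ∧ Nat.card 𝐜(x) = 17640}.ncard = 24 := by omega
  have q2 : {x | x ∈ E ∧ x ≠ 1 ∧ Nat.card 𝐜(x) = Nat.card 𝐜(g)}.ncard = 24 := by omega
  rw [q1, q2] at this
  refine ⟨j, j1, this, ?_⟩
  rintro rfl
  rw [j2] at q2 o
  exact ⟨q2, o⟩

end CL2

open CL2

theorem Cb.cl2 (h : Cb E) (k : Spor.IsoCo1 C ∨ Spor.IsoTh C ∨ Spor.IsoB C) : Spor.IsoCo1 C ∧ ∃ x, Fo E x ∧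
    (∀ i, Nat.card 𝐜(x i) = 1176) ∧ ∀ g ∈ E, g ≠ 1 → Nat.card 𝐜(g) = 17640 ∨ ∃ i, g ∈ zpowers (x i) := by
  obtain ⟨y, hy, y1, -⟩ := h.ex
  obtain ⟨m, m1, m2⟩ := num h hy y1
  obtain ⟨j, j1, j2, j3⟩ := split h
  have m3 := card_sylow_modEq_one 7 C
  unfold Nat.ModEq at m3
  simp only [Finset.mem_insert, Finset.mem_singleton] at m1 j1
  generalize Nat.card (Sylow 7 C) = n at m2 m3 j2
  obtain ⟨co, rfl⟩ : Spor.IsoCo1 C ∧ j = 8 := by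
    rcases k with ⟨⟨e⟩⟩ | ⟨⟨e⟩⟩ | ⟨⟨e⟩⟩
    · rw [Nat.card_congr e.toEquiv, Cfsg.Agent.S0399.result.2] at m2
      exact ⟨⟨e⟩, by rcases m1 with rfl | rfl | rfl | rfl | rfl | rfl <;> omega⟩
    · rw [Nat.card_congr e.toEquiv, Cfsg.Agent.S1700.result.2] at m2
      rcases m1 with rfl | rfl | rfl | rfl | rfl | rfl <;> omega
    · rw [Nat.card_congr e.toEquiv, Cfsg.Agent.S1704.result.2] at m2
      rcases m1 with rfl | rfl | rfl | rfl | rfl | rfl <;> omega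
  obtain ⟨c, o⟩ := j3 rfl
  obtain ⟨x, x1, x2, x3⟩ := pts h (Y := {x | x ∈ E ∧ x ≠ 1 ∧ Nat.card 𝐜(x) = 1176}) (fun _ q => ⟨q.1, q.2.1⟩) (fun x hx y hy y1 =>
    ⟨zpowers_le.2 hx.1 hy, y1, by rw [cen_eq h hx.1 hy y1]; exact hx.2.2⟩) c
  refine ⟨co, x, ⟨fun i => (x1 i).1, fun i => (x1 i).2.1, x2, fun i j => ?_⟩, fun i => (x1 i).2.2,
    fun g hg g1 => (o g hg g1).imp_right fun q => x3 g ⟨hg, g1, q⟩⟩
  have l : {y | y ≠ 1 ∧ ∃ n ∈ 𝐍(E), y ∈ zpowers (n * x j * n⁻¹)} ⊆ {x | x ∈ E ∧ x ≠ 1 ∧ Nat.card 𝐜(x) = 1176} :=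
    fun y ⟨y1, n, hn, m⟩ => have := conj_mem_of_mem_normalizer hn (x1 j).1
      ⟨zpowers_le.2 this m, y1, by rw [cen_eq h this m y1, card_cen]; exact (x1 j).2.2⟩
  have := pl1 h (x1 j).1 (x1 j).2.1
  obtain ⟨-, n, -, m⟩ := (Set.eq_of_subset_of_ncard_le l (by omega)).ge (x1 i)
  rw [← cj_zpowers, mem_cj] at m
  exact ⟨n⁻¹, by rwa [inv_inv]⟩

end CF.Sv
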