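import Cfsg.Agent.Sv.A
import Cfsg.Agent.S2215
import Cfsg.Agent.S0279
import Cfsg.Agent.Geom.QdU
import Cfsg.Agent.Fus.Small

/-! Recognition of the Held group from a Sylow 7-normalizer. -/

set_option autoImplicit false

namespace CF.Sv

open Cfsg Subgroup CF.Loc
open scoped commutatorElement

namespace HE

section
open Module CF.Geom
variable {F W : Type*} [Field F] [AddCommGroup W] [Module F W] [FiniteDimensional F W]

set_option synthInstance.maxHeartbeats 400000 in
theorem hN [Fintype F] {σ : F →+* F} {B : W →ₛₗ[σ] W →ₗ[F] F} (hH : IsHerm B) (hB : B.Nondegenerate)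
    (h3 : finrank F W = 3) (p : ℕ) [hp : Fact p.Prime] [CharP F p] (P : Subgroup (SUG B)) (hP : IsPGroup p P)
    (P0 : P ≠ ⊥) : IsPGroup p (commutator (normalizer (P : Set (SUG B)))) := by
  have := Module.finite_of_finite F (M := W)
  have : Finite (W ≃ₗ[F] W) := Finite.of_injective _ DFunLike.coe_injective
  have wp := hH.wittPair hB
  let C : Submodule F W :=
    { carrier := {v | ∀ g ∈ P, g.1 v = v}
      zero_mem' := by simp
      add_mem' := fun a b g hg => by rw [map_add, a g hg, b g hg]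
      smul_mem' := fun c _ a g hg => by rw [map_smul, a g hg] }
  let ρ : normalizer (P : Set (SUG B)) →* End F W := LinearEquiv.automorphismGroup.toLinearMapMonoidHom.comp
    ((SUG B).subtype.comp (Subgroup.subtype _))
  have pp : ∀ {A : Submodule F W}, (∀ g, ∀ v ∈ A, ρ g v ∈ A) → ∀ g, ∀ v ∈ perp B A, ρ g v ∈ perp B A :=
    fun hA g v hv => mem_perp.2 fun x hx => by
      have := (mem_SUG.1 g.1.2).1 (ρ g⁻¹ x) v
      rw [mem_perp.1 hv _ (hA _ _ hx)] at this
      simpa [ρ] using this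
  have hC : ∀ g, ∀ v ∈ C, ρ g v ∈ C := fun g v hv x hx => by
    simpa [ρ] using congrArg g.1.1 (hv _ ((mem_normalizer_iff''.1 g.2 x).1 hx))
  have hU : ∀ g, ∀ v ∈ C ⊓ perp B C, ρ g v ∈ C ⊓ perp B C := fun g v hv => ⟨hC g v hv.1, pp hC g v hv.2⟩
  have U0 : 0 < finrank F ↥(C ⊓ perp B C) := by
    let S : SubMulAction P W := ⟨perp B C, fun g v hv => pp hC ⟨g.1, le_normalizer g.2⟩ v hv⟩
    obtain ⟨b, hb, b0⟩ := hP.exists_fixed_point_of_prime_dvd_card_of_fixed_point S (by
      change p ∣ Nat.card (perp B C)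
      rw [natCard_eq_pow_finrank (K := F), Nat.card_eq_fintype_card]
      refine dvd_pow ((CharP.cast_eq_zero_iff F p _).1 (Nat.cast_card_eq_zero F)) fun e => P0 (eq_bot_iff.2 fun g hg => ?_)
      have := wp.finrank_perp C
      exact Subtype.ext (LinearEquiv.ext fun v => (Submodule.eq_top_of_finrank_eq (S := C) (by omega)).ge
        Submodule.mem_top g hg)) (a := ⟨0, Submodule.zero_mem _⟩) fun g => Subtype.ext (map_zero g.1.1)
    exact finrank_pos_iff_exists_ne_zero.2 ⟨⟨b.1, fun g hg => congrArg Subtype.val (hb ⟨g, hg⟩), b.2⟩,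
      fun e => b0 (Subtype.ext (congrArg Subtype.val e).symm)⟩
  set U := C ⊓ perp B C
  have le : U ≤ perp B U := inf_le_right.trans (perp_anti inf_le_left)
  have d1 := wp.two_mul_finrank_le le
  have d2 := wp.finrank_perp U
  exact fun ⟨g, hg⟩ => ⟨2, by
    have a1 := QdU.comm_triv ρ (A := ⊤) (by simp) (pp hU) le_top (by rw [finrank_top]; omega) g hg
    have a2 := QdU.comm_triv ρ (pp hU) hU le (by omega) g hg
    have a3 := QdU.comm_triv ρ (B := ⊥) hU (by simp) bot_le (by omega) g hg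
    have c : (ρ g - 1) ^ 3 = 0 := LinearMap.ext fun v => a3 _ (a2 _ (a1 v trivial))
    have : Nontrivial W := nontrivial_of_finrank_pos (R := F) (by omega)
    have : CharP (End F W) p := charP_of_injective_algebraMap' F p
    have := pow_eq_zero_of_le (n := p ^ 2) (by nlinarith [hp.out.two_le]) c
    rw [sub_pow_char_pow_of_commute _ _ (Commute.one_right _), one_pow, sub_eq_zero, ← map_pow] at this
    exact Subtype.ext (Subtype.ext (Subtype.ext (LinearEquiv.toLinearMap_injective this)))⟩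
end

local instance f7 : Fact (Nat.Prime 7) := ⟨by norm_num⟩

theorem tr {X Y : Type*} [Group X] [Group Y] [Finite Y] (f : X →* Y) (hf : Function.Injective f)
    (h7 : ∀ x, P7 x → x ∈ f.range)
    (hX : ∀ Z : Subgroup X, IsPGroup 7 Z → Z ≠ ⊥ → IsPGroup 7 (commutator 𝐍(Z)))
    {Z : Subgroup Y} (Z0 : Z ≠ ⊥) (Zp : IsPGroup 7 Z) : IsPGroup 7 (closure {x | x ∈ 𝐍(Z) ∧ P7 x}) := by
  have := Finite.of_injective f hf
  have zr : Z ≤ f.range := fun x hx => h7 x ((Zp ⟨x, hx⟩).imp fun _ e => congrArg Subtype.val e)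
  have a := hX (Z.comap f) (Zp.comap_of_injective f hf) fun e => Z0 (by
    rw [← map_comap_eq_self zr, e, Subgroup.map_bot])
  obtain ⟨S, hS⟩ := a.exists_le_sylow
  have n : S.1.Normal := Subgroup.Normal.of_commutator_le _ hS
  have u := S.unique_of_normal n
  refine ((S.2.map (Subgroup.subtype _)).map f).to_le ((closure_le _).2 fun x hx => ?_)
  obtain ⟨y, rfl⟩ := h7 x hx.2
  have hy : y ∈ 𝐍(Z.comap f) := mem_normalizer_iff.2 fun z => by
    rw [mem_comap, mem_comap, map_mul, map_mul, map_inv]; exact mem_normalizer_iff.1 hx.1 _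
  obtain ⟨k, hk⟩ := hx.2
  obtain ⟨T, hT⟩ := (show IsPGroup 7 (zpowers (⟨y, hy⟩ : 𝐍(Z.comap f))) from fun ⟨_, j, rfl⟩ => ⟨k, Subtype.ext (by
    have : (⟨y, hy⟩ : 𝐍(Z.comap f)) ^ 7 ^ k = 1 := Subtype.ext (hf (by
      rw [coe_pow, map_pow, hk, coe_one, map_one]))
    change ((⟨y, hy⟩ : 𝐍(Z.comap f)) ^ j) ^ 7 ^ k = 1
    rw [← zpow_natCast, ← zpow_mul, mul_comm, zpow_mul, zpow_natCast, this, one_zpow])⟩).exists_le_sylow
  obtain rfl := Subsingleton.elim S T
  exact ⟨y, ⟨_, hT (mem_zpowers _), rfl⟩, rfl⟩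

end HE

attribute [local instance] HE.f7 in
theorem he {Y : Type*} [Group Y] [Finite Y] (hK : IsKGroup Y) (P : Subgroup Y) (hP : Nat.card P = 343)
    (na : ¬ IsMulCommutative P) (nP : Nat.card 𝐍(P) ∣ 343 * 18)
    (nm : ∀ N : Subgroup Y, N.Normal → N ≠ ⊥ → P ≤ N ∧ 343 * 6 ∣ Nat.card ↥(N ⊓ 𝐍(P)))
    {Z : Subgroup Y} (Z0 : Z ≠ ⊥) (ZP : Z ≤ P) (hZ : ¬ IsPGroup 7 (closure {x | x ∈ 𝐍(Z) ∧ P7 x})) :
    Spor.IsoHe Y := by
  have p3 : Nat.card P = 7 ^ 3 := hP
  have pP : IsPGroup 7 P := .of_card p3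
  have h4 : ¬ 7 ^ 4 ∣ Nat.card Y := fun h =>
    absurd ((Sylow.prime_pow_dvd_card_normalizer h p3).trans nP) (by decide)
  obtain ⟨L, ⟨nL, L0⟩, mL⟩ := exists_minimal_of_wellFoundedLT (fun N : Subgroup Y => N.Normal ∧ N ≠ ⊥)
    ⟨⊤, inferInstance, fun e => Z0 (eq_bot_iff.2 (e ▸ le_top))⟩
  obtain ⟨PL, c6⟩ := nm L nL L0
  have ix : ¬ 7 ∣ P.index := fun h => h4 (by
    rw [← P.card_mul_index, p3, pow_succ]; exact Nat.mul_dvd_mul_left _ h)
  let S0 : Sylow 7 Y := pP.toSylow ix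
  let S : Sylow 7 L := S0.subtype PL
  have cS : Nat.card S = 7 ^ 3 := (Nat.card_congr (subgroupOfEquivOfLe PL).toEquiv).trans p3
  have nS : ¬ IsMulCommutative S := fun c => na (Even.isMulCommutative_of_equiv (subgroupOfEquivOfLe PL) c)
  have ex := Fus.extraspecial_of_cube cS nS
  have key : ∀ N : Subgroup L, N.Normal → N ≠ ⊥ → (center S).map S.1.subtype ≤ N := fun N hN N0 => by
    have a : 7 ∣ Nat.card N := by
      by_contra a
      have b := Solv.le_pPrimeCore_of_isSubnormal (p := 7) (hN.isSubnormal.trans' nL.isSubnormal) (by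
        rw [card_map_of_injective L.subtype_injective]
        exact ((Nat.Prime.coprime_iff_not_dvd (by norm_num)).2 a).symm)
      refine Solv.not_dvd_card_pPrimeCore (p := 7) (G := Y) (Dvd.dvd.trans (by rw [hP]; decide)
        (card_dvd_of_le (nm _ inferInstance fun e => N0 ?_).1))
      rw [e, le_bot_iff, map_eq_bot_iff_of_injective _ L.subtype_injective] at b
      exact b
    have b : N.subgroupOf S.1 ≠ ⊥ := fun e => by
      have i : N.relIndex S.1 = 7 ^ 3 := by rw [relIndex, e, index_bot, cS]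
      rw [← relIndex_sup_left, relIndex] at i
      have j := (N.subgroupOf (N ⊔ S.1)).card_mul_index
      rw [i, Nat.card_congr (subgroupOfEquivOfLe le_sup_left).toEquiv] at j
      refine h4 (Dvd.dvd.trans ?_ ((card_subgroup_dvd_card (N ⊔ S.1)).trans (card_subgroup_dvd_card L)))
      rw [← j, pow_succ']
      exact Nat.mul_dvd_mul_right a _
    have := S.2.isNilpotent
    have c := Solv.normal_inf_center_ne_bot _ b
    have d : N.subgroupOf S.1 ⊓ center S = center S := by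
      refine eq_of_le_of_card_ge inf_le_right ?_
      have := card_dvd_of_le (inf_le_right : N.subgroupOf S.1 ⊓ center S ≤ _)
      rw [ex.2] at this ⊢
      rcases (Nat.dvd_prime (by norm_num)).1 this with h | h
      exacts [absurd (card_eq_one.1 h) c, h.ge]
    rw [map_le_iff_le_comap, ← d]
    exact inf_le_left
  have sL : IsSimpleGroup L := by
    have := (nontrivial_iff_ne_bot L).2 L0
    refine ⟨fun N hN => or_iff_not_imp_left.2 fun N0 => ?_⟩
    have z0 : center S ≠ ⊥ := fun e => by have := ex.2; rw [e, card_bot] at this; omega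
    obtain ⟨⟨z, hz⟩, z1⟩ := ne_bot_iff_exists_ne_one.1 z0
    have a : (z.1 : Y) ∈ (N.map L.subtype).normalCore := fun y => by
      have := key (N.comap (MulAut.conjNormal y : MulAut L).toMonoidHom) inferInstance (fun e => N0 (by
        rw [← map_comap_eq_self_of_surjective (f := (MulAut.conjNormal y : MulAut L).toMonoidHom)
          (MulEquiv.surjective _) N, e, Subgroup.map_bot])) ⟨z, hz, rfl⟩
      exact ⟨_, this, rfl⟩
    have le := (normalCore_le _).trans (map_subtype_le N)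
    have b := mL ⟨inferInstance, fun e => z1 (by
      rw [e] at a; exact Subtype.ext (Subtype.ext (Subtype.ext a)))⟩ le
    refine eq_top_iff.2 fun x _ => ?_
    obtain ⟨y, hy, e⟩ := normalCore_le _ (b x.2)
    exact (Subtype.ext e : y = x) ▸ hy
  have nL' : ¬ IsMulCommutative L := fun c => nS inferInstance
  have fr : 𝐍(P) ⊔ L = ⊤ := S0.normalizer_sup_eq_top' PL
  have cn : ∃ n, n % 7 = 1 ∧ Nat.card L = n * Nat.card ↥(L ⊓ 𝐍(P)) := by
    refine ⟨_, card_sylow_modEq_one 7 L, ?_⟩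
    have : normalizer (S : Set L) = (L ⊓ 𝐍(P)).subgroupOf L := by
      rw [inf_subgroupOf_left]; exact (subgroupOf_normalizer_eq PL).symm
    rw [S.card_eq_index_normalizer, this, ← Nat.card_congr (subgroupOfEquivOfLe inf_le_left).toEquiv,
      index_mul_card]
  have c18 : Nat.card ↥(L ⊓ 𝐍(P)) ∣ 343 * 18 := (card_dvd_of_le inf_le_right).trans nP
  have cc : Nat.card ↥(L ⊓ 𝐍(P)) = 343 * 6 ∨ Nat.card ↥(L ⊓ 𝐍(P)) = 343 * 18 := by
    obtain ⟨k, hk⟩ := c6
    rw [hk] at c18 ⊢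
    have : k ∣ 3 := Nat.dvd_of_mul_dvd_mul_left (k := 343 * 6) (by norm_num) c18
    rcases (Nat.dvd_prime Nat.prime_three).1 this with rfl | rfl <;> simp
  obtain ⟨n, n1, n2⟩ := cn
  rcases Cfsg.Agent.S2215.result nL' (fun H _ => Even.IsKGroup.subgroup hK L H) S ex cS with
    (⟨⟨e⟩⟩ | ⟨-, F, _, _, hF, ⟨e⟩⟩) | h | h | h | h | h | ⟨-, ⟨⟨e⟩⟩ | ⟨⟨e⟩⟩ | ⟨⟨e⟩⟩⟩ | h | h
  any_goals exact absurd h.1 (by decide)
  · have := Cfsg.Agent.S0243.result (F := ZMod 7) (ZMod.card 7) 3 (by norm_num)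
    rw [← Nat.card_congr e.toEquiv] at this
    simp only [Fin.prod_univ_three] at this
    norm_num at this
    rcases cc with h | h <;> rw [h] at n2 <;> omega
  · obtain ⟨σ, a, b, c⟩ := CF.Geom.exists_conj hF
    have := charP_of_card_eq_prime_pow hF
    have z : center (SU 3 F 7) = ⊥ := card_eq_one.1 (Cfsg.Agent.S0279.result hF 3 le_rfl)
    let j := ((e.trans (QuotientGroup.quotientMulEquivOfEq z)).trans QuotientGroup.quotientBot).trans
      (CF.Geom.suEquiv 3 a)
    refine absurd (HE.tr (L.subtype.comp j.symm.toMonoidHom) (L.subtype_injective.comp j.symm.injective)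
      (fun x ⟨k, hk⟩ => ?_) (HE.hN (CF.Geom.isHerm_hermSesq (ι := Fin 3) b c) (CF.Geom.hermSesq_nondegenerate σ)
        (by simp) 7) Z0 (pP.to_le ZP)) hZ
    have : x ∈ L := by
      have i : ¬ 7 ∣ L.index := fun h => ix (h.trans (index_dvd_of_le PL))
      rw [← QuotientGroup.eq_one_iff, ← orderOf_eq_one_iff]
      refine Nat.eq_one_of_dvd_coprimes (Nat.Coprime.pow_left k
        ((Nat.Prime.coprime_iff_not_dvd (by norm_num)).2 i)) (orderOf_dvd_of_pow_eq_one ?_) (orderOf_dvd_natCard _)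
      rw [← QuotientGroup.mk_pow, hk, QuotientGroup.mk_one]
    exact ⟨j ⟨x, this⟩, by simp⟩
  · rw [Nat.card_congr e.toEquiv, CF.Comp.He.card] at n2
    have c : Nat.card ↥(L ⊓ 𝐍(P)) = 343 * 18 := cc.resolve_left fun h => by rw [h] at n2; omega
    have d : L ⊓ 𝐍(P) = 𝐍(P) := eq_of_le_of_card_ge inf_le_right (c ▸ Nat.le_of_dvd (by norm_num) nP)
    rw [sup_of_le_right (inf_eq_right.1 d)] at fr
    exact ⟨(topEquiv.symm.trans (MulEquiv.subgroupCongr fr.symm)).trans e⟩
  · rw [Nat.card_congr e.toEquiv, CF.Comp.ON.card] at n2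
    rcases cc with h | h <;> rw [h] at n2 <;> omega
  · rw [Nat.card_congr e.toEquiv, CF.Comp.Fi24.card'] at n2
    rcases cc with h | h <;> rw [h] at n2 <;> omega

end CF.Sv
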