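import Cfsg.Agent.Sv.XH0
import Cfsg.Agent.Sv.HE

/-! The centralizer of a `7A`-element is `7 × He`. -/

set_option autoImplicit false

namespace CF.Sv

open Cfsg Subgroup CF.Loc

open XH in
theorem Bs.xh {G : Type*} [Group G] [Finite G] (B : Bs G) (hK : IsCompositionKProper G) :
    ∃ f : 𝐜(B.c) →* Spor.He, Function.Surjective f ∧ ∀ g, f g = 1 ↔ (g : G) ∈ zpowers B.c := by
  obtain ⟨e⟩ := he (Even.IsKGroup.quotient (kg hK fun h => c0 B (B.cQ_le fun a _ =>
      mem_centralizer_singleton_iff.1 (h.ge (mem_top a)))) (Zc B)) _ (card_Pb B) (na B) (nP B)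
    (fun N _ h => ⟨P_le h, nm h⟩) (Z := Zb B)
    (fun h => d_ne B (h.le ⟨_, dZ B, rfl⟩)) (Zb_le B) (hZ B)
  exact ⟨e.toMonoidHom.comp (pr B), e.surjective.comp (QuotientGroup.mk'_surjective _), fun g => by
    rw [← pr_eq]; exact e.map_eq_one_iff⟩

end CF.Sv
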