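import Cfsg.Agent.Sv.EE0
import Cfsg.Agent.Sv.GS
import Cfsg.Agent.Sv.LA
import Cfsg.Agent.Sv.XH

/-! S3024: the involution `t` and the subgroup `E = 7²` of its centralizer. -/

set_option autoImplicit false

namespace CF.Sv

open Cfsg Subgroup CF.Loc

theorem Bs.ee {G : Type*} [Group G] [Finite G] (B : Bs G) (hK : IsCompositionKProper G) :
    ∃ (t : G) (ht : t ∈ 𝐜(t)) (E : Subgroup 𝐜(t)), Ce ⟨t, ht⟩ E :=
  EE.ee0 B hK B.toLo.cb (B.xh hK) (B.li.orb B.c1 B.c2)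

end CF.Sv
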